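import Groth.Prelude.Def_W4c5suslinpi1abAdj

/-!
# Lemmas on projection morphisms and exterior products for monoidal adjunctions
-/

universe v u

open CategoryTheory MonoidalCategory Functor.LaxMonoidal Functor.OplaxMonoidal
open W4c5suslinpi1ab

namespace Groth.Agent.ZBMonAdj

variable {C : Type u} [Category.{v} C] [MonoidalCategory C]
variable {D : Type u} [Category.{v} D] [MonoidalCategory D]
variable {L : C ⥤ D} {R : D ⥤ C} (adj : L ⊣ R)

theorem symm_projR [L.OplaxMonoidal] [R.LaxMonoidal] [adj.IsMonoidal] (A : D) (B : C) :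
    (adj.homEquiv _ _).symm (projR adj A B) =
      δ L (R.obj A) B ≫ (adj.counit.app A ▷ L.obj B) := by
  rw [Adjunction.homEquiv_counit, projR, Functor.map_comp, Category.assoc,
    Adjunction.map_μ_comp_counit_app_tensor]
  erw [← δ_natural_right_assoc]
  congr 1
  rw [← id_tensorHom, tensorHom_comp_tensorHom, Category.id_comp, adj.left_triangle_components,
    tensorHom_id]

theorem symm_projL [L.OplaxMonoidal] [R.LaxMonoidal] [adj.IsMonoidal] (A : C) (B : D) :
    (adj.homEquiv _ _).symm (projL adj A B) =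
      δ L A (R.obj B) ≫ (L.obj A ◁ adj.counit.app B) := by
  rw [Adjunction.homEquiv_counit, projL, Functor.map_comp, Category.assoc,
    Adjunction.map_μ_comp_counit_app_tensor]
  erw [← δ_natural_left_assoc]
  congr 1
  rw [← tensorHom_id, tensorHom_comp_tensorHom, Category.id_comp]
  erw [adj.left_triangle_components]
  exact id_tensorHom _ _

theorem projR_naturality [R.LaxMonoidal] {A A' : D} {B B' : C} (f : A ⟶ A') (g : B ⟶ B') :
    (R.map f ⊗ₘ g) ≫ projR adj A' B' = projR adj A B ≫ R.map (f ⊗ₘ L.map g) := by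
  have h := adj.unit.naturality g
  dsimp at h
  rw [projR, projR, Category.assoc, ← μ_natural, ← id_tensorHom, ← id_tensorHom,
    tensorHom_comp_tensorHom_assoc, tensorHom_comp_tensorHom_assoc, Category.comp_id,
    Category.id_comp, h]

theorem projL_naturality [R.LaxMonoidal] {A A' : C} {B B' : D} (f : A ⟶ A') (g : B ⟶ B') :
    (f ⊗ₘ R.map g) ≫ projL adj A' B' = projL adj A B ≫ R.map (L.map f ⊗ₘ g) := by
  have h := adj.unit.naturality f
  dsimp at h
  rw [projL, projL, Category.assoc, ← μ_natural, ← tensorHom_id, ← tensorHom_id,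
    tensorHom_comp_tensorHom_assoc, tensorHom_comp_tensorHom_assoc, Category.comp_id,
    Category.id_comp, h]

theorem cupShriek_naturality_right {S : C ⥤ D} (adj' : R ⊣ S) [R.LaxMonoidal]
    [∀ (A : D) (B : C), IsIso (projR adj A B)] (A : C) {B B' : C} (g : B ⟶ B') :
    (S.obj A ◁ L.map g) ≫ cupShriek adj adj' A B' =
      cupShriek adj adj' A B ≫ S.map (A ◁ g) := by
  apply (adj'.homEquiv _ _).symm.injective
  rw [Adjunction.homEquiv_naturality_left_symm, Adjunction.homEquiv_naturality_right_symm,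
    cupShriek, cupShriek, Equiv.symm_apply_apply, Equiv.symm_apply_apply, Category.assoc,
    IsIso.eq_inv_comp]
  have hw := whisker_exchange (adj'.counit.app A) g
  dsimp at hw
  rw [← hw]
  have h := projR_naturality adj (𝟙 (S.obj A)) g
  rw [Functor.map_id, id_tensorHom, id_tensorHom] at h
  rw [← Category.assoc (projR adj (S.obj A) B), ← h]
  simp

section Square

variable {S₀ : Type u} [Category.{v} S₀] [MonoidalCategory S₀]
    {Y₁ : Type u} [Category.{v} Y₁] [MonoidalCategory Y₁]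
    {Y₂ : Type u} [Category.{v} Y₂] [MonoidalCategory Y₂]
    {X : Type u} [Category.{v} X] [MonoidalCategory X]
    {fL : S₀ ⥤ Y₁} {fR : Y₁ ⥤ S₀} (adjf : fL ⊣ fR) {gR : Y₂ ⥤ S₀}
    {pL : Y₁ ⥤ X} {pR : X ⥤ Y₁} (adjp : pL ⊣ pR) {qL : Y₂ ⥤ X} {qR : X ⥤ Y₂} (adjq : qL ⊣ qR)
    (ν : qR ⋙ gR ⟶ pR ⋙ fR)

theorem extProd_naturality [fR.LaxMonoidal] [pR.LaxMonoidal] {A A' : Y₁} {B B' : Y₂}
    (a : A ⟶ A') (b : B ⟶ B') :
    (fR.map a ⊗ₘ gR.map b) ≫ extProd adjf adjp adjq ν A' B' =
      extProd adjf adjp adjq ν A B ≫ fR.map (pR.map (pL.map a ⊗ₘ qL.map b)) := by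
  have hb := (bcMor adjf adjq ν).naturality b
  have hl := projL_naturality adjp a (qL.map b)
  dsimp at hb hl
  simp only [extProd, Category.assoc]
  rw [← Category.assoc, projR_naturality, Category.assoc, ← fR.map_comp, ← fR.map_comp,
    ← fR.map_comp, ← fR.map_comp]
  congr 2
  rw [← hl, ← id_tensorHom, ← id_tensorHom, tensorHom_comp_tensorHom_assoc,
    tensorHom_comp_tensorHom_assoc, Category.comp_id, Category.id_comp, hb]

variable {fS : S₀ ⥤ Y₁} (adjf' : fR ⊣ fS) {gS : S₀ ⥤ Y₂} (adjg' : gR ⊣ gS)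
    {pS : Y₁ ⥤ X} (adjp' : pR ⊣ pS)
    [fR.LaxMonoidal] [pR.LaxMonoidal]
    [∀ (A : Y₁) (B : S₀), IsIso (projR adjf A B)]
    [∀ (A : Y₁) (B : X), IsIso (projL adjp A B)]
    [∀ B : Y₂, IsIso ((bcMor adjf adjq ν).app B)]

theorem extProd_comp_symm_prodShriek_aux (A B : S₀) :
    extProd adjf adjp adjq ν (fS.obj A) (gS.obj B) ≫
        fR.map ((adjp'.homEquiv _ _).symm
          (prodShriek adjf adjf' adjg' adjp adjp' adjq ν A B)) =
      projR adjf (fS.obj A) (gR.obj (gS.obj B)) ≫
        fR.map (cupShriek adjf adjf' A (gR.obj (gS.obj B)) ≫ fS.map (A ◁ adjg'.counit.app B)) := by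
  rw [prodShriek, Equiv.symm_apply_apply]
  simp only [extProd, Category.assoc, ← fR.map_comp]
  congr 2
  rw [IsIso.hom_inv_id_assoc, ← whiskerLeft_comp_assoc, IsIso.hom_inv_id, whiskerLeft_id]
  exact Category.id_comp _

theorem symm_cupShriek (A B : S₀) :
    (adjf'.homEquiv _ _).symm (cupShriek adjf adjf' A B) =
      inv (projR adjf (fS.obj A) B) ≫ (adjf'.counit.app A ▷ B) :=
  Equiv.symm_apply_apply _ _

theorem extProd_comp_symm_prodShriek (A B : S₀) :
    extProd adjf adjp adjq ν (fS.obj A) (gS.obj B) ≫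
      ((adjp'.comp adjf').homEquiv _ _).symm
        (prodShriek adjf adjf' adjg' adjp adjp' adjq ν A B) =
      (adjf'.counit.app A ⊗ₘ adjg'.counit.app B) := by
  rw [show ((adjp'.comp adjf').homEquiv _ _).symm
        (prodShriek adjf adjf' adjg' adjp adjp' adjq ν A B) =
      fR.map ((adjp'.homEquiv _ _).symm (prodShriek adjf adjf' adjg' adjp adjp' adjq ν A B)) ≫
        adjf'.counit.app (A ⊗ B) from ?_]
  · rw [← Category.assoc, extProd_comp_symm_prodShriek_aux, Category.assoc,
      ← Adjunction.homEquiv_counit (adj := adjf'), Adjunction.homEquiv_naturality_right_symm,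
      symm_cupShriek, Category.assoc, IsIso.hom_inv_id_assoc, tensorHom_def]
    rfl
  · rw [Adjunction.comp_homEquiv]
    exact adjf'.homEquiv_counit _ _ _

instance extProd_isIso (A : Y₁) (B : Y₂) : IsIso (extProd adjf adjp adjq ν A B) := by
  unfold extProd
  infer_instance

end Square

end Groth.Agent.ZBMonAdj
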